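import Groth.Agent.S6886
import Mathlib.AlgebraicGeometry.Pullbacks
import Mathlib.AlgebraicGeometry.Morphisms.Finite
import Mathlib.AlgebraicGeometry.Morphisms.Flat
import Mathlib.AlgebraicGeometry.Morphisms.FinitePresentation
import Mathlib.RingTheory.Finiteness.ModuleFinitePresentation
import Mathlib.RingTheory.Spectrum.Prime.RingHom
import Mathlib.RingTheory.Flat.Basic

/-!
After a finite locally free cover a finite scheme embeds in a finite locally free union of sections.
-/

set_option autoImplicit false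
set_option linter.style.haveILetI false
set_option backward.isDefEq.respectTransparency.types false
universe u

open CategoryTheory CategoryTheory.Limits AlgebraicGeometry TensorProduct

namespace Groth.L24.Sections

/-- The universal algebra with roots of given monic polynomials. -/
theorem exists_root_algebra {A : Type u} [CommRing A] : ∀ (n : ℕ) (p : Fin n → Polynomial A), (∀ i, (p i).Monic) →
    ∃ (W : Type u) (_ : CommRing W) (_ : Algebra A W) (x : Fin n → W), Module.Finite A W ∧ Module.Free A W ∧
      (∀ i, Polynomial.aeval (x i) (p i) = 0) ∧ Algebra.adjoin A (Set.range x) = ⊤ ∧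
      ∀ (C : Type u) [CommRing C] [Algebra A C] (y : Fin n → C), (∀ i, Polynomial.aeval (y i) (p i) = 0) →
        ∃ h : W →ₐ[A] C, ∀ i, h (x i) = y i := by
  intro n
  induction n with
  | zero =>
    intro p _
    exact ⟨A, inferInstance, Algebra.id A, Fin.elim0, inferInstance, inferInstance, fun i => i.elim0,
      eq_top_iff.mpr fun a _ => Subalgebra.algebraMap_mem _ a, fun C _ _ y _ => ⟨Algebra.ofId A C, fun i => i.elim0⟩⟩
  | succ n ih =>
    intro p hp
    obtain ⟨W, _, _, x, hfin, hfree, hx, hgen, huniv⟩ := ih (fun i => p i.castSucc) fun i => hp _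
    let P := (p (Fin.last n)).map (algebraMap A W)
    have hP : P.Monic := (hp _).map _
    haveI := hP.free_adjoinRoot
    haveI := hP.finite_adjoinRoot
    let x' : Fin (n + 1) → AdjoinRoot P := Fin.snoc (fun i => algebraMap W (AdjoinRoot P) (x i)) (AdjoinRoot.root P)
    have hcast : ∀ i : Fin n, x' i.castSucc = algebraMap W (AdjoinRoot P) (x i) := fun i => Fin.snoc_castSucc _ _ _
    have hlast : x' (Fin.last n) = AdjoinRoot.root P := Fin.snoc_last _ _
    refine ⟨AdjoinRoot P, inferInstance, inferInstance, x', Module.Finite.trans W _,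
      Module.Free.trans (R := A) (S := W) (M := AdjoinRoot P), ?_, ?_, ?_⟩
    · refine Fin.lastCases ?_ fun i => ?_
      · rw [hlast, ← Polynomial.aeval_map_algebraMap W, AdjoinRoot.aeval_eq, AdjoinRoot.mk_self]
      · rw [hcast, Polynomial.aeval_algebraMap_apply, hx, map_zero]
    · refine eq_top_iff.mpr fun z _ => ?_
      have hW : ∀ w : W, algebraMap W (AdjoinRoot P) w ∈ Algebra.adjoin A (Set.range x') := by
        intro w
        have hmem : w ∈ Algebra.adjoin A (Set.range x) := hgen.ge trivial
        have h : IsScalarTower.toAlgHom A W (AdjoinRoot P) w ∈ (Algebra.adjoin A (Set.range x)).map (IsScalarTower.toAlgHom A W (AdjoinRoot P)) :=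
          ⟨w, hmem, rfl⟩
        rw [AlgHom.map_adjoin] at h
        refine Algebra.adjoin_mono ?_ h
        rintro _ ⟨_, ⟨i, rfl⟩, rfl⟩
        exact ⟨i.castSucc, hcast i⟩
      induction z using AdjoinRoot.induction_on with
      | _ q =>
        induction q using Polynomial.induction_on' with
        | add a b ha hb => rw [map_add]; exact add_mem (ha trivial) (hb trivial)
        | monomial k w =>
          rw [← Polynomial.C_mul_X_pow_eq_monomial, map_mul, map_pow, AdjoinRoot.mk_C, AdjoinRoot.mk_X]
          exact mul_mem (hW w) (pow_mem (Algebra.subset_adjoin (Set.mem_range.mpr ⟨Fin.last n, hlast⟩)) k)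
    · intro C _ _ y hy
      obtain ⟨h, hh⟩ := huniv C (fun i => y i.castSucc) fun i => hy _
      have he : Polynomial.eval₂ (h : W →+* C) (y (Fin.last n)) P = 0 := by
        rw [Polynomial.eval₂_map, h.comp_algebraMap]
        exact hy (Fin.last n)
      refine ⟨AdjoinRoot.liftAlgHom P h (y (Fin.last n)) he, Fin.lastCases ?_ fun i => ?_⟩
      · rw [hlast, AdjoinRoot.liftAlgHom_root]
      · rw [hcast, AdjoinRoot.algebraMap_eq, AdjoinRoot.liftAlgHom_of, hh]

/-- A finite algebra is, after a finite free extension, a quotient of a finite free algebra which is a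
union of sections. -/
theorem exists_union_sections (R S : Type u) [CommRing R] [CommRing S] [Algebra R S] [Module.Finite R S] :
    ∃ (R' : Type u) (_ : CommRing R') (_ : Algebra R R'), Module.Finite R R' ∧ Module.Free R R' ∧
      Function.Injective (algebraMap R R') ∧
      ∃ (W : Type u) (_ : CommRing W) (_ : Algebra R' W), Module.Finite R' W ∧ Module.Free R' W ∧
        ∃ ψ : W →ₐ[R'] R' ⊗[R] S, Function.Surjective ψ ∧
          ∃ (m : ℕ) (σ : Fin m → (W →ₐ[R'] R')), ∀ P : PrimeSpectrum W, ∃ j, RingHom.ker (σ j) ≤ P.asIdeal := by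
  classical
  obtain ⟨R', _, _, hfin, hfree, hinj, n, d, α, φ, hφ, hroot⟩ := Groth.Agent.S6886.result R S
  let p : Fin n → Polynomial R' := fun i => ∏ j, (Polynomial.X - Polynomial.C (α i j))
  have hp : ∀ i, (p i).Monic := fun i => Polynomial.monic_prod_of_monic _ _ fun j _ => Polynomial.monic_X_sub_C _
  obtain ⟨W, _, _, x, hWfin, hWfree, hx, hgen, huniv⟩ := exists_root_algebra n p hp
  obtain ⟨ψ, hψ⟩ := huniv (R' ⊗[R] S) (fun i => φ (MvPolynomial.X i)) fun i => by
    refine Eq.trans ?_ (hroot i)
    simp only [p, map_prod, map_sub, Polynomial.aeval_X, Polynomial.aeval_C, MvPolynomial.algHom_C]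
  let e : Fin (Fintype.card (∀ i, Fin (d i))) ≃ (∀ i, Fin (d i)) := (Fintype.equivFin _).symm
  choose σ hσ using fun J : ∀ i, Fin (d i) => huniv R' (fun i => α i (J i)) fun i => by
    simp only [p, map_prod, map_sub, Polynomial.aeval_X, Polynomial.aeval_C]
    exact Finset.prod_eq_zero (Finset.mem_univ (J i)) (sub_self _)
  refine ⟨R', inferInstance, inferInstance, hfin, hfree, hinj, W, inferInstance, inferInstance, hWfin, hWfree,
    ψ, ?_, _, fun j => σ (e j), fun P => ?_⟩
  · intro s
    obtain ⟨q, rfl⟩ := hφ s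
    refine ⟨MvPolynomial.aeval x q, ?_⟩
    have h : ψ.comp (MvPolynomial.aeval x) = φ := MvPolynomial.algHom_ext fun i => by simp [hψ]
    exact AlgHom.congr_fun h q
  · have hfac : ∀ i, ∃ j : Fin (d i), x i - algebraMap R' W (α i j) ∈ P.asIdeal := fun i => by
      have h : ∏ j, (x i - algebraMap R' W (α i j)) ∈ P.asIdeal := by
        have := hx i
        simp only [p, map_prod, map_sub, Polynomial.aeval_X, Polynomial.aeval_C] at this
        rw [this]; exact zero_mem _
      obtain ⟨j, -, hj⟩ := P.isPrime.prod_mem_iff.mp h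
      exact ⟨j, hj⟩
    choose J hJ using hfac
    refine ⟨e.symm J, fun w hw => ?_⟩
    have h : (Ideal.Quotient.mkₐ R' P.asIdeal) = (Algebra.ofId R' _).comp (σ J) := by
      refine AlgHom.ext_of_adjoin_eq_top hgen ?_
      rintro _ ⟨i, rfl⟩
      rw [AlgHom.comp_apply, hσ, Algebra.ofId_apply, IsScalarTower.algebraMap_apply R' W (W ⧸ P.asIdeal),
        Ideal.Quotient.mkₐ_eq_mk, Ideal.Quotient.algebraMap_eq, Ideal.Quotient.eq]
      exact hJ i
    simp only [Equiv.apply_symm_apply] at hw
    have := AlgHom.congr_fun h w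
    rw [AlgHom.comp_apply, RingHom.mem_ker.mp hw, map_zero] at this
    exact Ideal.Quotient.eq_zero_iff_mem.mp this

theorem finLocFree_spec {A B : Type u} [CommRing A] [CommRing B] [Algebra A B] [Module.Finite A B] [Module.Free A B] :
    IsFinite (Spec.map (CommRingCat.ofHom (algebraMap A B))) ∧ Flat (Spec.map (CommRingCat.ofHom (algebraMap A B))) ∧
      LocallyOfFinitePresentation (Spec.map (CommRingCat.ofHom (algebraMap A B))) := by
  haveI : Module.FinitePresentation A B := Module.finitePresentation_of_projective A B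
  exact ⟨(IsFinite.SpecMap_iff _).2 (RingHom.finite_algebraMap.2 inferInstance),
    (HasRingHomProperty.Spec_iff (P := @Flat)).2 (RingHom.flat_algebraMap_iff.2 inferInstance),
    (HasRingHomProperty.Spec_iff (P := @LocallyOfFinitePresentation)).2 (RingHom.finitePresentation_algebraMap.2 inferInstance)⟩

/-- After a finite locally free cover, a finite scheme over an affine base embeds in a union of sections. -/
theorem exists_cover_union_sections {X Y : Scheme.{u}} [IsAffine X] (f : Y ⟶ X) [IsFinite f] :
    ∃ (X' : Scheme.{u}) (b : X' ⟶ X) (Z' : Scheme.{u}) (c : Z' ⟶ X') (i : pullback f b ⟶ Z'),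
      (IsFinite b ∧ Flat b ∧ LocallyOfFinitePresentation b) ∧ Surjective b ∧
      (IsFinite c ∧ Flat c ∧ LocallyOfFinitePresentation c) ∧ IsClosedImmersion i ∧
      i ≫ c = pullback.snd f b ∧
      ∃ (m : ℕ) (Zj : Fin m → Scheme.{u}) (ιj : ∀ j, Zj j ⟶ Z'),
        (∀ j, IsClosedImmersion (ιj j)) ∧ (∀ j, IsIso (ιj j ≫ c)) ∧
        (⋃ j, Set.range (ιj j).base) = Set.univ := by
  haveI : IsAffine Y := isAffine_of_isAffineHom f
  let R := Γ(X, ⊤)
  let S := Γ(Y, ⊤)
  letI : Algebra R S := f.appTop.hom.toAlgebra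
  haveI : Module.Finite R S := RingHom.finite_algebraMap.mp (IsFinite.finite_app f ⊤ (isAffineOpen_top X))
  obtain ⟨R', _, _, hfin, hfree, hinj, W, _, _, hWfin, hWfree, ψ, hψ, m, σ, hσ⟩ := exists_union_sections R S
  let b₀ : Spec (CommRingCat.of R') ⟶ Spec (CommRingCat.of R) := Spec.map (CommRingCat.ofHom (algebraMap R R'))
  let b : Spec (CommRingCat.of R') ⟶ X := b₀ ≫ X.isoSpec.inv
  let s₀ : Spec (CommRingCat.of S) ⟶ Spec (CommRingCat.of R) := Spec.map (CommRingCat.ofHom (algebraMap R S))
  have hsq : IsPullback (pullback.snd f b) (pullback.fst f b ≫ Y.isoSpec.hom) b₀ s₀ :=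
    (IsPullback.of_hasPullback f b).flip.of_iso (Iso.refl _) (Iso.refl _) Y.isoSpec X.isoSpec
      (by simp) (by simp) (by simp [b, b₀]) (Scheme.isoSpec_hom_naturality f).symm
  let ι := hsq.isoPullback ≪≫ pullbackSpecIso R R' S
  let c : Spec (CommRingCat.of W) ⟶ Spec (CommRingCat.of R') := Spec.map (CommRingCat.ofHom (algebraMap R' W))
  obtain ⟨h1, h2, h3⟩ := finLocFree_spec (A := R) (B := R')
  haveI := h1; haveI := h2; haveI := h3
  haveI : IsClosedImmersion (Spec.map (CommRingCat.ofHom ψ.toRingHom)) := IsClosedImmersion.spec_of_surjective _ hψ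
  haveI : Surjective b₀ := ⟨fun x => by
    obtain ⟨y, hy⟩ := (RingHom.IsIntegral.comap_surjective (f := algebraMap R R')
      (algebraMap_isIntegral_iff.mpr inferInstance) hinj) x
    exact ⟨y, hy⟩⟩
  refine ⟨_, b, _, c, ι.hom ≫ Spec.map (CommRingCat.ofHom ψ.toRingHom),
    ⟨inferInstanceAs (IsFinite (_ ≫ _)), inferInstanceAs (Flat (_ ≫ _)),
      inferInstanceAs (LocallyOfFinitePresentation (_ ≫ _))⟩,
    inferInstanceAs (Surjective (_ ≫ _)), finLocFree_spec, inferInstance, ?_,
    m, fun _ => Spec (CommRingCat.of R'), fun j => Spec.map (CommRingCat.ofHom (σ j).toRingHom),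
    fun j => IsClosedImmersion.spec_of_surjective _ fun r => ⟨algebraMap R' W r, (σ j).commutes r⟩, fun j => ?_, ?_⟩
  · rw [Category.assoc, ← Spec.map_comp, ← CommRingCat.ofHom_comp,
      show ψ.toRingHom.comp (algebraMap R' W) = algebraMap R' (R' ⊗[R] S) from ψ.comp_algebraMap]
    simp only [ι, Iso.trans_hom, Category.assoc, pullbackSpecIso_hom_fst']
    exact hsq.isoPullback_hom_fst
  · rw [← Spec.map_comp, ← CommRingCat.ofHom_comp, show (σ j).toRingHom.comp (algebraMap R' W) = RingHom.id R' from
      (σ j).comp_algebraMap]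
    rw [CommRingCat.ofHom_id, Spec.map_id]
    infer_instance
  · refine Set.eq_univ_of_forall fun P => Set.mem_iUnion.mpr ?_
    obtain ⟨j, hj⟩ := hσ P
    have hs : Function.Surjective (σ j).toRingHom := fun r => ⟨algebraMap R' W r, (σ j).commutes r⟩
    exact ⟨j, (range_comap_of_surjective _ _ hs).ge hj⟩

end Groth.L24.Sections
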